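import Cfsg.Agent.MonsterX.HeM.Words

/-!
# Splitting a check of the vector engine at an intermediate vector

The word `pd` of the generator `d` is `pd1 ++ pd2`; a check of a word containing `pd` follows from two checks with half of
the memory (`check_split`, `check_split_right`).
-/

set_option autoImplicit false

namespace Cfsg.Agent.MonsterX.HeM.Split

open Cfsg.Agent.Monster.VecEngine Cfsg.Agent.MonsterX.ProgTable Cfsg.Agent.MonsterX
open Cfsg.Agent.MonsterX.HeM.Words

theorem go_mono {x : Pl} {k k' : Pl → Bool} (h : ∀ y, k y = true → k' y = true) (hx : go x k = true) :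
    go x k' = true := by
  rw [go_eq] at hx ⊢
  exact h _ hx

theorem goHalf_mono {x : Pl} {k k' : Pl → Bool} (h : ∀ y, k y = true → k' y = true) (hx : goHalf x k = true) :
    goHalf x k' = true := by
  cases x with
  | sgn s =>
    have hx' : (Bool.rec false (k (.sgn 0)) (Nat.beq s 0) : Bool) = true := hx
    show (Bool.rec false (k' (.sgn 0)) (Nat.beq s 0) : Bool) = true
    cases h1 : Nat.beq s 0 with
    | false => rw [h1] at hx'; exact absurd hx' (by simp)
    | true => rw [h1] at hx'; exact h _ hx'
  | cons p L =>
    have hx' : (Bool.rec false (k L) (Nat.beq p 0) : Bool) = true := hx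
    show (Bool.rec false (k' L) (Nat.beq p 0) : Bool) = true
    cases h1 : Nat.beq p 0 with
    | false => rw [h1] at hx'; exact absurd hx' (by simp)
    | true => rw [h1] at hx'; exact h _ hx'

theorem run_mono (P : Prog) (x : Pl) {k k' : Pl → Bool} (h : ∀ y, k y = true → k' y = true)
    (hx : run P x k = true) : run P x k' = true := by
  induction P generalizing x with
  | nil => exact h x hx
  | perm N P ih => exact go_mono (fun y hy => ih y hy) hx
  | neg M P ih => exact go_mono (fun y hy => ih y hy) hx
  | dbl M P ih => exact go_mono (fun y hy => ih y hy) hx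
  | half P ih => exact goHalf_mono (fun y hy => ih y hy) hx
  | bfly M d P ih => exact go_mono (fun y hy => ih y hy) hx

theorem runL_mono (w : List Prog) (x : Pl) {k k' : Pl → Bool} (h : ∀ y, k y = true → k' y = true)
    (hx : runL w x k = true) : runL w x k' = true := by
  induction w generalizing x with
  | nil => exact h x hx
  | cons P w ih => exact run_mono P x (fun y hy => ih y hy) hx

theorem runL_append (w w' : List Prog) (x : Pl) (k : Pl → Bool) :
    runL (w ++ w') x k = runL w x fun y => runL w' y k := by
  induction w generalizing x with
  | nil => rfl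
  | cons P w ih =>
    show run P x (fun y => runL (w ++ w') y k) = run P x (fun y => runL w y fun z => runL w' z k)
    congr 1
    funext y
    exact ih y

/-- The word `w` takes the planes `x` exactly to the planes `m`. -/
noncomputable def half (w : List Prog) (x m : Pl) : Bool := runL w x fun y => eqP y m

theorem runL_split {w w' : List Prog} {x m : Pl} {k : Pl → Bool} (h : half w x m = true)
    (h' : runL w' m k = true) : runL (w ++ w') x k = true := by
  rw [runL_append]
  exact runL_mono w x (fun y hy => by rw [eq_of_eqP hy]; exact h') h

/-- A check, split at the vector `m` on the left side. -/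
theorem check_split {w w' v : List Prog} {x m y : Pl} (h : half w x m = true) (h' : check w' m v y = true) :
    check (w ++ w') x v y = true :=
  runL_split h h'

/-- A check, split at the vector `m` on the right side. -/
theorem check_split_right {u v v' : List Prog} {x y m : Pl} (h : half v y m = true) (h' : check u x v' m = true) :
    check u x (v ++ v') y = true :=
  runL_mono u x (fun _ hz => runL_split h hz) h'

/-- The programs of `d`, first part. -/
noncomputable def pd1 : List Prog :=
  [prog 40, ProgM.Hes3.prog, prog 39, ProgM.Hep2i.prog, prog 39, ProgM.Hes13.prog, prog 40, ProgM.Hes12.prog,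
    prog 39, ProgM.Hep2.prog, prog 39, ProgM.Hes10.prog, prog 40, ProgM.Hes9.prog, prog 39]

/-- The programs of `d`, second part. -/
noncomputable def pd2 : List Prog :=
  [ProgM.Hep2.prog, prog 39, ProgM.Hes7.prog, prog 41, ProgM.Hes3.prog, prog 39, ProgM.Hep2i.prog, prog 39,
    ProgM.Hes4.prog, prog 41, ProgM.Hes3.prog, prog 39, ProgM.Hep2i.prog, prog 39, ProgM.Hes1.prog, prog 41]

theorem pd_eq : pd = pd1 ++ pd2 := rfl

end Cfsg.Agent.MonsterX.HeM.Split
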