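import Cfsg.Agent.MonsterX.HeM.D1
import Cfsg.Agent.MonsterX.HeM.Split
import Cfsg.Agent.MonsterX.HeM.V3
import Cfsg.Agent.MonsterX.HeM.V4

/-!
Kernel computations for Held's group: `d` commutes with `a`, `b`.
-/

set_option autoImplicit false
set_option maxRecDepth 100000
set_option Elab.async false

namespace Cfsg.Agent.MonsterX.HeM.D2

open Cfsg.Agent.Monster.VecEngine Cfsg.Agent.MonsterX.BaseVec Cfsg.Agent.MonsterX.InstData
open Cfsg.Agent.MonsterX.HeM Cfsg.Agent.MonsterX.HeM.Words Cfsg.Agent.MonsterX.HeM.Split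

/-- The first half of `t3`. -/
theorem t3_a : half (pa ++ pd1) (up 9 vB) V3.y = true := by decide +kernel

/-- The second half of `t3`. -/
theorem t3_b : check pd2 V3.y pa Y1.y = true := by decide +kernel

/-- `d a v = a y1`. -/
theorem t3 : check (pa ++ pd) (up 9 vB) pa Y1.y = true := by
  have h : pa ++ pd = (pa ++ pd1) ++ pd2 := by simp only [pd_eq, List.append_assoc]
  rw [h]
  exact check_split t3_a t3_b

/-- The first half of `t4`. -/
theorem t4_a : half (pb ++ pd1) (up 9 vB) V4.y = true := by decide +kernel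

/-- The second half of `t4`. -/
theorem t4_b : check pd2 V4.y pb Y1.y = true := by decide +kernel

/-- `d b v = b y1`. -/
theorem t4 : check (pb ++ pd) (up 9 vB) pb Y1.y = true := by
  have h : pb ++ pd = (pb ++ pd1) ++ pd2 := by simp only [pd_eq, List.append_assoc]
  rw [h]
  exact check_split t4_a t4_b

end Cfsg.Agent.MonsterX.HeM.D2
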