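import Cfsg.Agent.MonsterX.HeM.DX
import Cfsg.Agent.MonsterX.HeM.ZE
import Cfsg.Agent.MonsterX.HeM.Split
import Cfsg.Agent.MonsterX.HeM.V6
import Cfsg.Agent.MonsterX.HeM.V6p

/-!
Kernel computations for Held's group: `(d e)^3`.
-/

set_option autoImplicit false
set_option maxRecDepth 100000
set_option Elab.async false

namespace Cfsg.Agent.MonsterX.HeM.D3

open Cfsg.Agent.Monster.VecEngine Cfsg.Agent.MonsterX.BaseVec Cfsg.Agent.MonsterX.InstData
open Cfsg.Agent.MonsterX.HeM Cfsg.Agent.MonsterX.HeM.Words Cfsg.Agent.MonsterX.HeM.Split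

/-- The first half of `t6`. -/
theorem t6_a : half (pe ++ pd1) Y1.y V6.y = true := by decide +kernel

/-- The second half of `t6`. -/
theorem t6_b : check pd2 V6.y [] ZE.y = true := by decide +kernel

/-- `z = d e d v`. -/
theorem t6 : check (pe ++ pd) Y1.y [] ZE.y = true := by
  have h : pe ++ pd = (pe ++ pd1) ++ pd2 := by simp only [pd_eq, List.append_assoc]
  rw [h]
  exact check_split t6_a t6_b

/-- The first half of `t6'`. -/
theorem t6'_a : half (pe ++ pd1) (up 9 vB) V6p.y = true := by decide +kernel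

/-- The second half of `t6'`. -/
theorem t6'_b : check (pd2 ++ pe) V6p.y [] ZE.y = true := by decide +kernel

/-- `z = e d e v`. -/
theorem t6' : check (pe ++ (pd ++ pe)) (up 9 vB) [] ZE.y = true := by
  have h : pe ++ (pd ++ pe) = (pe ++ pd1) ++ (pd2 ++ pe) := by simp only [pd_eq, List.append_assoc]
  rw [h]
  exact check_split t6'_a t6'_b

end Cfsg.Agent.MonsterX.HeM.D3
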