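import Cfsg.Agent.MonsterX.HeM.D3
import Cfsg.Agent.MonsterX.HeM.ZF
import Cfsg.Agent.MonsterX.HeM.Split
import Cfsg.Agent.MonsterX.HeM.V7
import Cfsg.Agent.MonsterX.HeM.V7p

/-!
Kernel computations for Held's group: `(d f)^3`.
-/

set_option autoImplicit false
set_option maxRecDepth 100000
set_option Elab.async false

namespace Cfsg.Agent.MonsterX.HeM.D4

open Cfsg.Agent.Monster.VecEngine Cfsg.Agent.MonsterX.BaseVec Cfsg.Agent.MonsterX.InstData
open Cfsg.Agent.MonsterX.HeM Cfsg.Agent.MonsterX.HeM.Words Cfsg.Agent.MonsterX.HeM.Split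

/-- The first half of `t7`. -/
theorem t7_a : half (pf ++ pd1) Y1.y V7.y = true := by decide +kernel

/-- The second half of `t7`. -/
theorem t7_b : check pd2 V7.y [] ZF.y = true := by decide +kernel

/-- `z = d f d v`. -/
theorem t7 : check (pf ++ pd) Y1.y [] ZF.y = true := by
  have h : pf ++ pd = (pf ++ pd1) ++ pd2 := by simp only [pd_eq, List.append_assoc]
  rw [h]
  exact check_split t7_a t7_b

/-- The first half of `t7'`. -/
theorem t7'_a : half (pf ++ pd1) (up 9 vB) V7p.y = true := by decide +kernel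

/-- The second half of `t7'`. -/
theorem t7'_b : check (pd2 ++ pf) V7p.y [] ZF.y = true := by decide +kernel

/-- `z = f d f v`. -/
theorem t7' : check (pf ++ (pd ++ pf)) (up 9 vB) [] ZF.y = true := by
  have h : pf ++ (pd ++ pf) = (pf ++ pd1) ++ (pd2 ++ pf) := by simp only [pd_eq, List.append_assoc]
  rw [h]
  exact check_split t7'_a t7'_b

end Cfsg.Agent.MonsterX.HeM.D4
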