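import Cfsg.Agent.MonsterX.HeM.D4
import Cfsg.Agent.MonsterX.HeM.ZG
import Cfsg.Agent.MonsterX.HeM.Split
import Cfsg.Agent.MonsterX.HeM.V8
import Cfsg.Agent.MonsterX.HeM.V8p

/-!
Kernel computations for Held's group: `(d g)^3`.
-/

set_option autoImplicit false
set_option maxRecDepth 100000
set_option Elab.async false

namespace Cfsg.Agent.MonsterX.HeM.D5

open Cfsg.Agent.Monster.VecEngine Cfsg.Agent.MonsterX.BaseVec Cfsg.Agent.MonsterX.InstData
open Cfsg.Agent.MonsterX.HeM Cfsg.Agent.MonsterX.HeM.Words Cfsg.Agent.MonsterX.HeM.Split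

/-- The first half of `t8`. -/
theorem t8_a : half (pg ++ pd1) (up 1 Y1.y) V8.y = true := by decide +kernel

/-- The second half of `t8`. -/
theorem t8_b : check pd2 V8.y [] ZG.y = true := by decide +kernel

/-- `z = d g d v`. -/
theorem t8 : check (pg ++ pd) (up 1 Y1.y) [] ZG.y = true := by
  have h : pg ++ pd = (pg ++ pd1) ++ pd2 := by simp only [pd_eq, List.append_assoc]
  rw [h]
  exact check_split t8_a t8_b

/-- The first half of `t8'`. -/
theorem t8'_a : half (pg ++ pd1) (up 10 vB) V8p.y = true := by decide +kernel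

/-- The second half of `t8'`. -/
theorem t8'_b : check (pd2 ++ pg) V8p.y [] ZG.y = true := by decide +kernel

/-- `z = g d g v`. -/
theorem t8' : check (pg ++ (pd ++ pg)) (up 10 vB) [] ZG.y = true := by
  have h : pg ++ (pd ++ pg) = (pg ++ pd1) ++ (pd2 ++ pg) := by simp only [pd_eq, List.append_assoc]
  rw [h]
  exact check_split t8'_a t8'_b

end Cfsg.Agent.MonsterX.HeM.D5
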