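import Cfsg.Agent.MonsterX.HeM.D6
import Cfsg.Agent.MonsterX.HeM.Z11
import Cfsg.Agent.MonsterX.HeM.Split
import Cfsg.Agent.MonsterX.HeM.V11
import Cfsg.Agent.MonsterX.HeM.V11p

/-!
Kernel computations for Held's group: `(c d)^5`, second part.
-/

set_option autoImplicit false
set_option maxRecDepth 100000
set_option Elab.async false

namespace Cfsg.Agent.MonsterX.HeM.D7

open Cfsg.Agent.Monster.VecEngine Cfsg.Agent.MonsterX.BaseVec Cfsg.Agent.MonsterX.InstData
open Cfsg.Agent.MonsterX.HeM Cfsg.Agent.MonsterX.HeM.Words Cfsg.Agent.MonsterX.HeM.Split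

/-- The first half of `t11`. -/
theorem t11_a : half (pc ++ pd1) Y5.y V11.y = true := by decide +kernel

/-- The second half of `t11`. -/
theorem t11_b : check pd2 V11.y [] Z11.y = true := by decide +kernel

/-- `z = d c y5`. -/
theorem t11 : check (pc ++ pd) Y5.y [] Z11.y = true := by
  have h : pc ++ pd = (pc ++ pd1) ++ pd2 := by simp only [pd_eq, List.append_assoc]
  rw [h]
  exact check_split t11_a t11_b

/-- The first half of `t11'`. -/
theorem t11'_a : half (pc ++ pd1) Y7.y V11p.y = true := by decide +kernel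

/-- The second half of `t11'`. -/
theorem t11'_b : check (pd2 ++ pc) V11p.y [] Z11.y = true := by decide +kernel

/-- `z = c d c y7`. -/
theorem t11' : check (pc ++ (pd ++ pc)) Y7.y [] Z11.y = true := by
  have h : pc ++ (pd ++ pc) = (pc ++ pd1) ++ (pd2 ++ pc) := by simp only [pd_eq, List.append_assoc]
  rw [h]
  exact check_split t11'_a t11'_b

end Cfsg.Agent.MonsterX.HeM.D7
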