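import Cfsg.Agent.MonsterX.HeM.D7
import Cfsg.Agent.MonsterX.HeM.Y6
import Cfsg.Agent.MonsterX.HeM.Y8
import Cfsg.Agent.MonsterX.HeM.Split
import Cfsg.Agent.MonsterX.HeM.V12
import Cfsg.Agent.MonsterX.HeM.V12p

/-!
Kernel computations for Held's group: `(c d f g)^4`, first part.
-/

set_option autoImplicit false
set_option maxRecDepth 100000
set_option Elab.async false

namespace Cfsg.Agent.MonsterX.HeM.D8

open Cfsg.Agent.Monster.VecEngine Cfsg.Agent.MonsterX.BaseVec Cfsg.Agent.MonsterX.InstData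
open Cfsg.Agent.MonsterX.HeM Cfsg.Agent.MonsterX.HeM.Words Cfsg.Agent.MonsterX.HeM.Split

/-- The first half of `t12`. -/
theorem t12_a : half (pc ++ (pg ++ (pf ++ pd1))) (up 1 Y1.y) V12.y = true := by decide +kernel

/-- The second half of `t12`. -/
theorem t12_b : check pd2 V12.y [] Y6.y = true := by decide +kernel

/-- `y6 = d f g c d v`. -/
theorem t12 : check (pc ++ (pg ++ (pf ++ pd))) (up 1 Y1.y) [] Y6.y = true := by
  have h : pc ++ (pg ++ (pf ++ pd)) = (pc ++ (pg ++ (pf ++ pd1))) ++ pd2 := by simp only [pd_eq, List.append_assoc]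
  rw [h]
  exact check_split t12_a t12_b

/-- The first half of `t12'`. -/
theorem t12'_a : half (pf ++ (pg ++ (pc ++ pd1))) (up 10 vB) V12p.y = true := by decide +kernel

/-- The second half of `t12'`. -/
theorem t12'_b : check pd2 V12p.y [] Y8.y = true := by decide +kernel

/-- `y8 = d c g f v`. -/
theorem t12' : check (pf ++ (pg ++ (pc ++ pd))) (up 10 vB) [] Y8.y = true := by
  have h : pf ++ (pg ++ (pc ++ pd)) = (pf ++ (pg ++ (pc ++ pd1))) ++ pd2 := by simp only [pd_eq, List.append_assoc]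
  rw [h]
  exact check_split t12'_a t12'_b

end Cfsg.Agent.MonsterX.HeM.D8
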