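import Cfsg.Agent.MonsterX.HeM.D8
import Cfsg.Agent.MonsterX.HeM.Split
import Cfsg.Agent.MonsterX.HeM.V13

/-!
Kernel computations for Held's group: `(c d f g)^4`, second part.
-/

set_option autoImplicit false
set_option maxRecDepth 100000
set_option Elab.async false

namespace Cfsg.Agent.MonsterX.HeM.D9

open Cfsg.Agent.Monster.VecEngine Cfsg.Agent.MonsterX.BaseVec Cfsg.Agent.MonsterX.InstData
open Cfsg.Agent.MonsterX.HeM Cfsg.Agent.MonsterX.HeM.Words Cfsg.Agent.MonsterX.HeM.Split

/-- The first half of `t13`. -/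
theorem t13_a : half (pf ++ (pg ++ (pc ++ pd1))) Y8.y V13.y = true := by decide +kernel

/-- The second half of `t13`. -/
theorem t13_b : check (pc ++ (pg ++ pf)) Y6.y pd2 V13.y = true := by decide +kernel

/-- `f g c y6 = d c g f y8`. -/
theorem t13 : check (pc ++ (pg ++ pf)) Y6.y (pf ++ (pg ++ (pc ++ pd))) Y8.y = true := by
  have h : pf ++ (pg ++ (pc ++ pd)) = (pf ++ (pg ++ (pc ++ pd1))) ++ pd2 := by simp only [pd_eq, List.append_assoc]
  rw [h]
  exact check_split_right t13_a t13_b

end Cfsg.Agent.MonsterX.HeM.D9
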