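import Cfsg.Agent.MonsterX.HeM.D2
import Cfsg.Agent.MonsterX.HeM.Split
import Cfsg.Agent.MonsterX.HeM.V5

/-!
Kernel computations for Held's group: `d` commutes with `x`.
-/

set_option autoImplicit false
set_option maxRecDepth 100000
set_option Elab.async false

namespace Cfsg.Agent.MonsterX.HeM.DX

open Cfsg.Agent.Monster.VecEngine Cfsg.Agent.MonsterX.BaseVec Cfsg.Agent.MonsterX.InstData
open Cfsg.Agent.MonsterX.HeM Cfsg.Agent.MonsterX.HeM.Words Cfsg.Agent.MonsterX.HeM.Split

/-- The first half of `t5`. -/
theorem t5_a : half (px ++ pd1) (up 9 vB) V5.y = true := by decide +kernel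

/-- The second half of `t5`. -/
theorem t5_b : check pd2 V5.y px Y1.y = true := by decide +kernel

/-- `d x v = x y1`. -/
theorem t5 : check (px ++ pd) (up 9 vB) px Y1.y = true := by
  have h : px ++ pd = (px ++ pd1) ++ pd2 := by simp only [pd_eq, List.append_assoc]
  rw [h]
  exact check_split t5_a t5_b

end Cfsg.Agent.MonsterX.HeM.DX
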